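import Cfsg.Agent.Lib.GolayModule.Submodules

/-!
The duads as functionals on the code, told apart from the sextets by the number of octad words on
which they are odd; linear maps of the code preserving the M24 classes modulo the all-ones word come
from M24.

Main result: `exists_perm_of_classes`.
-/

set_option autoImplicit false
open scoped Pointwise symmDiff
open Cfsg Cfsg.Agent.Golay

namespace Cfsg.Agent.GolayModule

/-- Indicator word of a set of points. -/
def indW (S : Finset GolayPt) : GolayPt → ZMod 2 := fun p => if p ∈ S then 1 else 0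

theorem sum_indW (S : Finset GolayPt) (c : GolayPt → ZMod 2) :
    ∑ p, indW S p * c p = ∑ p ∈ S, c p := by
  simp [indW, ite_mul]

theorem support₂_indW (S : Finset GolayPt) : support₂ (indW S) = S := by
  ext p
  by_cases h : p ∈ S <;> simp [support₂, indW, h]

theorem indW_support₂ (v : GolayPt → ZMod 2) : indW (support₂ v) = v :=
  eq_of_support₂_eq (support₂_indW _)

/-- A short word in the code is zero. -/
theorem eq_empty_of_indW_mem {S : Finset GolayPt} (h : indW S ∈ golayCode) (h8 : S.card < 8) :
    S = ∅ := by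
  have h2 := weights h
  rw [← card_support₂, support₂_indW] at h2
  exact Finset.card_eq_zero.1 (by omega)

/-- Short sets inducing the same functional are equal. -/
theorem eq_of_sums_eq {S T : Finset GolayPt} (h8 : S.card + T.card < 8)
    (h : ∀ c ∈ golayCode, ∑ p ∈ S, c p = ∑ p ∈ T, c p) : S = T := by
  have hmem : indW S + indW T ∈ golayCode := by
    refine GolayCocode.mem_golayCode_of_orth fun c hc => ?_
    simp only [Pi.add_apply, add_mul, Finset.sum_add_distrib, sum_indW, h c hc]
    exact CharTwo.add_self_eq_zero _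
  have e : indW S + indW T = indW (S ∆ T) := by
    funext p
    by_cases h1 : p ∈ S <;> by_cases h2 : p ∈ T <;>
      simp [indW, Finset.mem_symmDiff, h1, h2, CharTwo.add_self_eq_zero]
  have hle : (S ∆ T).card < 8 :=
    lt_of_le_of_lt ((Finset.card_le_card (by intro p; simp [Finset.mem_symmDiff]; tauto :
      S ∆ T ⊆ S ∪ T)).trans (Finset.card_union_le S T)) h8
  exact symmDiff_eq_bot.1 (eq_empty_of_indW_mem (e ▸ hmem) hle)

/-- The number of octads and complements on which a set is odd. -/
noncomputable def oddCount (v : GolayPt → ZMod 2) : ℕ :=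
  Nat.card {c : ↥golayCode // ((support₂ (c : GolayPt → ZMod 2)).card = 8 ∨
    (support₂ (c : GolayPt → ZMod 2)).card = 16) ∧ ∑ p, v p * (c : GolayPt → ZMod 2) p = 1}

theorem oddCount_word (m : ℕ) : oddCount (word m) =
    countSpan (fun k => (popcount k == 8 || popcount k == 16) && popcount (m &&& k) % 2 == 1)
      rows 0 := by
  classical
  rw [countSpan_eq, show rows.length = 12 from rfl, oddCount]
  set F := (Finset.range (2 ^ 12)).filter fun x =>
    ((popcount (0 ^^^ encAux rows x) == 8 || popcount (0 ^^^ encAux rows x) == 16) &&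
      popcount (m &&& (0 ^^^ encAux rows x)) % 2 == 1) = true with hF
  have hmem : ∀ x, x ∈ F ↔ x < 4096 ∧ ((popcount (enc x) = 8 ∨ popcount (enc x) = 16) ∧
      popcount (m &&& enc x) % 2 = 1) := fun x => by
    simp [hF, enc]
  have hprop : ∀ x : ℕ, (((support₂ (word (enc x))).card = 8 ∨ (support₂ (word (enc x))).card = 16) ∧
      ∑ p, word m p * word (enc x) p = 1) ↔
      ((popcount (enc x) = 8 ∨ popcount (enc x) = 16) ∧ popcount (m &&& enc x) % 2 = 1) := fun x => by
    rw [support₂_word, card_pts, dot_word, ZMod.natCast_eq_one_iff_odd, Nat.odd_iff]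
  rw [← Nat.card_eq_finsetCard]
  symm
  refine Nat.card_eq_of_bijective (fun x : ↥F =>
    ⟨(⟨word (enc x.1), word_enc_mem _⟩ : ↥golayCode), (hprop x.1).2 ((hmem _).1 x.2).2⟩) ⟨?_, ?_⟩
  · rintro ⟨x, hx⟩ ⟨y, hy⟩ h
    have h2 : word (enc x) = word (enc y) := congrArg (fun z => (z.1.1 : GolayPt → ZMod 2)) h
    exact Subtype.ext (bijOn_word_enc.injOn ((hmem x).1 hx).1 ((hmem y).1 hy).1 h2)
  · rintro ⟨⟨c, hc⟩, hw⟩
    obtain ⟨x, hx, rfl⟩ := mem_golayCode_iff.1 hc
    exact ⟨⟨x, (hmem x).2 ⟨hx, (hprop x).1 hw⟩⟩, rfl⟩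

theorem oddCount_perm {k : Equiv.Perm GolayPt} (hk : k ∈ M24) (v : GolayPt → ZMod 2) :
    oddCount (fun p => v (k.symm p)) = oddCount v := by
  let e : ↥golayCode ≃ ↥golayCode :=
    { toFun := fun c => ⟨_, perm_mem hk c.2⟩
      invFun := fun c => ⟨_, perm_mem (inv_mem hk) c.2⟩
      left_inv := fun c => by ext p; simp [Equiv.Perm.inv_def]
      right_inv := fun c => by ext p; simp [Equiv.Perm.inv_def] }
  refine (Nat.card_congr (e.subtypeEquiv fun c => ?_)).symm
  show _ ↔ ((support₂ fun p => (c : GolayPt → ZMod 2) (k.symm p)).card = 8 ∨ _) ∧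
    ∑ p, v (k.symm p) * (c : GolayPt → ZMod 2) (k.symm p) = 1
  rw [word_perm, Finset.card_smul_finset,
    Equiv.sum_comp k.symm fun p => v p * (c : GolayPt → ZMod 2) p]
  simp [e, word_perm, Finset.card_smul_finset]

/-- The values of the count on one duad and on one set of four points. -/
theorem count_values :
    countSpan (fun k => (popcount k == 8 || popcount k == 16) && popcount (0x800001 &&& k) % 2 == 1)
      rows 0 = 704 ∧
    countSpan (fun k => (popcount k == 8 || popcount k == 16) && popcount (0x800007 &&& k) % 2 == 1)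
      rows 0 = 768 := by
  constructor <;> decide +kernel

theorem word_two : word 0x800001 = indW {none, some 0} :=
  eq_of_support₂_eq (by rw [support₂_word, support₂_indW]; decide +kernel)

theorem word_four : word 0x800007 = indW {none, some 0, some 1, some 2} :=
  eq_of_support₂_eq (by rw [support₂_word, support₂_indW]; decide +kernel)

theorem indW_perm (k : Equiv.Perm GolayPt) (S : Finset GolayPt) :
    (fun p => indW S (k.symm p)) = indW (k • S) :=
  eq_of_support₂_eq (by rw [word_perm, support₂_indW, support₂_indW])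

theorem oddCount_duad {a b : GolayPt} (h : a ≠ b) : oddCount (indW {a, b}) = 704 := by
  obtain ⟨k, hk, ha, hb⟩ := exists_map_two (show (none : GolayPt) ≠ some 0 by simp) h
  have e : k • ({none, some 0} : Finset GolayPt) = {a, b} := by
    rw [Finset.smul_finset_insert, Finset.smul_finset_singleton]
    simp [Equiv.Perm.smul_def, ha, hb]
  rw [← e, ← indW_perm, oddCount_perm hk, ← word_two, oddCount_word]
  exact count_values.1

theorem oddCount_four {S : Finset GolayPt} (h : S.card = 4) : oddCount (indW S) = 768 := by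
  obtain ⟨a, b, c, d, hab, hac, had, hbc, hbd, hcd, rfl⟩ := Finset.card_eq_four.1 h
  obtain ⟨k, hk, ha, hb, hc, hd⟩ := exists_map_four
    (show [(none : GolayPt), some 0, some 1, some 2].Nodup by decide)
    (show [a, b, c, d].Nodup by simp [hab, hac, had, hbc, hbd, hcd])
  have e : k • ({none, some 0, some 1, some 2} : Finset GolayPt) = {a, b, c, d} := by
    simp [Finset.smul_finset_insert, Finset.smul_finset_singleton, Equiv.Perm.smul_def, ha, hb, hc, hd]
  rw [← e, ← indW_perm, oddCount_perm hk, ← word_four, oddCount_word]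
  exact count_values.2

theorem one_mem : (1 : GolayPt → ZMod 2) ∈ golayCode :=
  Submodule.subset_span (Or.inr rfl)

/-- A functional vanishing at the all-ones word with the count of a duad is a duad. -/
theorem exists_duad (v : GolayPt → ZMod 2) (h1 : ∑ p, v p = 0) (hcount : oddCount v = 704) :
    ∃ a b : GolayPt, a ≠ b ∧ ∀ c ∈ golayCode, ∑ p, v p * c p = c a + c b := by
  obtain ⟨u, hu4, huC⟩ : ∃ u, hammingNorm u ≤ 4 ∧ v - u ∈ golayCode := by
    rcases GolayCosets.coset_classify v with ⟨-, u, h3, hu⟩ | ⟨h6, h4, -⟩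
    · exact ⟨u, by omega, hu⟩
    · obtain ⟨u, hu⟩ := Set.nonempty_of_ncard_ne_zero (by omega : (GolayCosets.short v).ncard ≠ 0)
      exact ⟨u, (h4 u hu).le, hu.2⟩
  set S := support₂ u with hS
  have hsum : ∀ c ∈ golayCode, ∑ p, v p * c p = ∑ p ∈ S, c p := fun c hc => by
    rw [← sum_indW S, hS, indW_support₂]
    have h := self_orthogonal huC hc
    simp only [Pi.sub_apply, sub_mul, Finset.sum_sub_distrib] at h
    exact sub_eq_zero.1 h
  have hcountS : oddCount (indW S) = 704 := by
    rw [← hcount]
    refine Nat.card_congr (Equiv.subtypeEquivRight fun c => and_congr_right fun _ => ?_)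
    rw [sum_indW, hsum _ c.2]
  have heven : Even S.card := by
    have h := hsum 1 one_mem
    simp only [Pi.one_apply, mul_one, h1, Finset.sum_const, nsmul_eq_mul] at h
    exact ZMod.natCast_eq_zero_iff_even.1 h.symm
  have hle : S.card ≤ 4 := by rw [hS, card_support₂]; exact hu4
  have hcases : S.card = 0 ∨ S.card = 2 ∨ S.card = 4 := by
    rcases heven with ⟨r, hr⟩
    omega
  rcases hcases with h | h | h
  · rw [Finset.card_eq_zero.1 h, oddCount] at hcountS
    simp [indW] at hcountS
  · obtain ⟨a, b, hab, hSab⟩ := Finset.card_eq_two.1 h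
    exact ⟨a, b, hab, fun c hc => by rw [hsum c hc, hSab, Finset.sum_pair hab]⟩
  · rw [oddCount_four h] at hcountS
    omega

-- A linear map of the code fixing the all-ones word and preserving the weights up to complement
-- comes from M24 modulo the all-ones word.
set_option maxHeartbeats 800000 in
theorem exists_perm_of_classes (x : ↥golayCode ≃ₗ[ZMod 2] ↥golayCode)
    (h1 : x ⟨1, one_mem⟩ = ⟨1, one_mem⟩)
    (hwt : ∀ c : ↥golayCode, (support₂ ((x c : ↥golayCode) : GolayPt → ZMod 2)).card =
        (support₂ (c : GolayPt → ZMod 2)).card ∨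
      (support₂ ((x c : ↥golayCode) : GolayPt → ZMod 2)).card + (support₂ (c : GolayPt → ZMod 2)).card = 24) :
    ∃ σ ∈ M24, ∀ c : ↥golayCode,
      ((x c : ↥golayCode) : GolayPt → ZMod 2) = (fun p => (c : GolayPt → ZMod 2) (σ.symm p)) ∨
      ((x c : ↥golayCode) : GolayPt → ZMod 2) =
        (fun p => (c : GolayPt → ZMod 2) (σ.symm p)) + fun _ => 1 := by
  classical
  -- the transpose carries duads to duads
  have hduad : ∀ a b : GolayPt, a ≠ b → ∃ P : Finset GolayPt, P.card = 2 ∧
      ∀ c : ↥golayCode, ((x c : ↥golayCode) : GolayPt → ZMod 2) a + (x c : GolayPt → ZMod 2) b =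
        ∑ p ∈ P, (c : GolayPt → ZMod 2) p := by
    intro a b hab
    let L : ↥golayCode →ₗ[ZMod 2] ZMod 2 :=
      ((LinearMap.proj a : (GolayPt → ZMod 2) →ₗ[ZMod 2] ZMod 2) + LinearMap.proj b).comp
        (golayCode.subtype.comp x.toLinearMap)
    obtain ⟨g, hg⟩ := LinearMap.exists_extend L
    let v : GolayPt → ZMod 2 := fun p => g (Pi.single p 1)
    have hv : ∀ c : ↥golayCode, ∑ p, v p * (c : GolayPt → ZMod 2) p =
        ((x c : ↥golayCode) : GolayPt → ZMod 2) a + (x c : GolayPt → ZMod 2) b := by
      intro c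
      have hw : ∀ y : GolayPt → ZMod 2, g y = ∑ p, v p * y p := fun y => by
        rw [LinearMap.pi_apply_eq_sum_univ g y]
        refine Finset.sum_congr rfl fun p _ => ?_
        have e : (fun q => if p = q then (1 : ZMod 2) else 0) = Pi.single p 1 := by
          funext q
          by_cases hq : p = q
          · subst hq; rw [if_pos rfl, Pi.single_eq_same]
          · rw [if_neg hq, Pi.single_eq_of_ne (Ne.symm hq)]
        rw [e, smul_eq_mul]
        exact mul_comm (y p) (v p)
      exact (hw _).symm.trans (LinearMap.congr_fun hg c)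
    have hv1 : ∑ p, v p = 0 := by
      have h := hv ⟨1, one_mem⟩
      rw [h1] at h
      simpa [CharTwo.add_self_eq_zero] using h
    have hcount : oddCount v = 704 := by
      rw [← oddCount_duad hab]
      refine Nat.card_congr (x.toEquiv.subtypeEquiv fun c => ?_)
      rw [hv c, sum_indW, Finset.sum_pair hab]
      refine and_congr ?_ Iff.rfl
      show _ ↔ (support₂ ((x c : ↥golayCode) : GolayPt → ZMod 2)).card = 8 ∨
        (support₂ ((x c : ↥golayCode) : GolayPt → ZMod 2)).card = 16
      rcases hwt c with h | h <;> omega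
    obtain ⟨a', b', hne, h⟩ := exists_duad v hv1 hcount
    refine ⟨{a', b'}, Finset.card_pair hne, fun c => ?_⟩
    rw [Finset.sum_pair hne, ← hv c, h _ c.2]
  choose P hP2 hP using hduad
  -- the star at the extra point
  let Q : {b : GolayPt // b ≠ none} → Finset GolayPt := fun b => P none b.1 (Ne.symm b.2)
  have hsurj : ∀ c' ∈ golayCode, ∃ c : ↥golayCode, ((x c : ↥golayCode) : GolayPt → ZMod 2) = c' :=
    fun c' hc' => ⟨x.symm ⟨c', hc'⟩, by simp⟩
  have hQinj : ∀ b b', Q b = Q b' → b = b' := by
    intro b b' h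
    refine Subtype.ext ?_
    have hs : ∀ c ∈ golayCode, ∑ p ∈ ({b.1} : Finset GolayPt), c p =
        ∑ p ∈ ({b'.1} : Finset GolayPt), c p := by
      intro c' hc'
      obtain ⟨c, rfl⟩ := hsurj c' hc'
      simp only [Finset.sum_singleton]
      have e := hP none b.1 (Ne.symm b.2) c
      have e' := hP none b'.1 (Ne.symm b'.2) c
      rw [show P none b.1 (Ne.symm b.2) = Q b from rfl, h] at e
      exact add_left_cancel (e.trans e'.symm)
    exact Finset.singleton_inj.1 (eq_of_sums_eq (by simp) hs)
  have hmeet : ∀ b b', b ≠ b' → (Q b ∩ Q b').card = 1 := by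
    intro b b' hbb'
    have hne : b.1 ≠ b'.1 := fun h => hbb' (Subtype.ext h)
    have hle : (Q b ∩ Q b').card ≤ 2 := (Finset.card_le_card Finset.inter_subset_left).trans (hP2 _ _ _).le
    have h2 : (Q b ∩ Q b').card ≠ 2 := fun h => hbb' (hQinj b b' (by
      have hb : (Q b).card = 2 := hP2 _ _ _
      have hb' : (Q b').card = 2 := hP2 _ _ _
      have e1 : Q b ∩ Q b' = Q b :=
        Finset.eq_of_subset_of_card_le Finset.inter_subset_left (by omega)
      have e2 : Q b ∩ Q b' = Q b' :=
        Finset.eq_of_subset_of_card_le Finset.inter_subset_right (by omega)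
      exact e1.symm.trans e2))
    have h0 : (Q b ∩ Q b').card ≠ 0 := fun h => by
      have hd : Disjoint (Q b) (Q b') := Finset.disjoint_iff_inter_eq_empty.2 (Finset.card_eq_zero.1 h)
      have hs : ∀ c ∈ golayCode, ∑ p ∈ Q b ∪ Q b', c p = ∑ p ∈ P b.1 b'.1 hne, c p := by
        intro c hc
        rw [Finset.sum_union hd]
        have e1 := hP none b.1 (Ne.symm b.2) ⟨c, hc⟩
        have e2 := hP none b'.1 (Ne.symm b'.2) ⟨c, hc⟩
        have e3 := hP b.1 b'.1 hne ⟨c, hc⟩
        rw [← e3]
        simp only [Q, ← e1, ← e2]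
        rw [add_add_add_comm, CharTwo.add_self_eq_zero, zero_add]
      have hc4 : (Q b ∪ Q b').card = 4 := by
        rw [Finset.card_union_of_disjoint hd, show (Q b).card = 2 from hP2 _ _ _,
          show (Q b').card = 2 from hP2 _ _ _]
      have := eq_of_sums_eq (by rw [hc4, hP2]; norm_num) hs
      rw [this, hP2] at hc4
      omega
    omega
  obtain ⟨u, hu⟩ : ∃ u, ∀ b, u ∈ Q b := by
    let b1 : {b : GolayPt // b ≠ none} := ⟨some 0, by simp⟩
    let b2 : {b : GolayPt // b ≠ none} := ⟨some 1, by simp⟩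
    have h12 : b1 ≠ b2 := by decide
    obtain ⟨u, hu⟩ := Finset.card_eq_one.1 (hmeet b1 b2 h12)
    have hu1 : u ∈ Q b1 ∧ u ∈ Q b2 := Finset.mem_inter.1 (hu ▸ Finset.mem_singleton_self u)
    refine ⟨u, fun b3 => ?_⟩
    by_contra h3
    -- such a member is forced to be the third side of a triangle
    have third : ∀ b, u ∉ Q b → Q b = (Q b1 ∪ Q b2).erase u := by
      intro b hb
      have n1 : b1 ≠ b := fun h => hb (h ▸ hu1.1)
      have n2 : b2 ≠ b := fun h => hb (h ▸ hu1.2)
      obtain ⟨y, hy⟩ := Finset.card_eq_one.1 (hmeet b1 b n1)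
      obtain ⟨z, hz⟩ := Finset.card_eq_one.1 (hmeet b2 b n2)
      have hy' : y ∈ Q b1 ∧ y ∈ Q b := Finset.mem_inter.1 (hy ▸ Finset.mem_singleton_self y)
      have hz' : z ∈ Q b2 ∧ z ∈ Q b := Finset.mem_inter.1 (hz ▸ Finset.mem_singleton_self z)
      have hyz : y ≠ z := fun h => by
        have : y ∈ Q b1 ∩ Q b2 := Finset.mem_inter.2 ⟨hy'.1, h ▸ hz'.1⟩
        rw [hu, Finset.mem_singleton] at this
        exact hb (this ▸ hy'.2)
      have hQb : Q b = {y, z} := (Finset.eq_of_subset_of_card_le
        (by simp [Finset.insert_subset_iff, hy'.2, hz'.2])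
        (by rw [Finset.card_pair hyz]; exact (hP2 _ _ _).le)).symm
      have hyu : y ≠ u := fun h => hb (h ▸ hy'.2)
      have hzu : z ≠ u := fun h => hb (h ▸ hz'.2)
      rw [hQb]
      refine Finset.eq_of_subset_of_card_le (fun p hp => ?_) ?_
      · rcases Finset.mem_insert.1 hp with rfl | hp
        · exact Finset.mem_erase.2 ⟨hyu, Finset.mem_union_left _ hy'.1⟩
        · rw [Finset.mem_singleton.1 hp]
          exact Finset.mem_erase.2 ⟨hzu, Finset.mem_union_right _ hz'.1⟩
      · have h22 := Finset.card_union_add_card_inter (Q b1) (Q b2)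
        rw [hu, Finset.card_singleton, show (Q b1).card = 2 from hP2 _ _ _,
          show (Q b2).card = 2 from hP2 _ _ _] at h22
        rw [Finset.card_erase_of_mem (Finset.mem_union_left _ hu1.1), Finset.card_pair hyz]
        omega
    obtain ⟨b4, -, hb4⟩ := Finset.exists_mem_notMem_of_card_lt_card
      (show ({b1, b2, b3} : Finset _).card < (Finset.univ : Finset {b : GolayPt // b ≠ none}).card from
        lt_of_le_of_lt Finset.card_le_three (by decide))
    simp only [Finset.mem_insert, Finset.mem_singleton, not_or] at hb4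
    by_cases h4 : u ∈ Q b4
    · obtain ⟨w, hw⟩ := Finset.card_eq_one.1 (hmeet b4 b3 hb4.2.2)
      have hw' : w ∈ Q b4 ∧ w ∈ Q b3 := Finset.mem_inter.1 (hw ▸ Finset.mem_singleton_self w)
      rw [third b3 h3, Finset.mem_erase, Finset.mem_union] at hw'
      have hQ4 : Q b4 = {u, w} := (Finset.eq_of_subset_of_card_le
        (by simp [Finset.insert_subset_iff, h4, hw'.1])
        (by rw [Finset.card_pair (Ne.symm hw'.2.1)]; exact (hP2 _ _ _).le)).symm
      rcases hw'.2.2 with hw1 | hw2
      · refine hb4.1 (hQinj _ _ ?_)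
        rw [hQ4]
        exact Finset.eq_of_subset_of_card_le (by simp [Finset.insert_subset_iff, hu1.1, hw1])
          (by rw [Finset.card_pair (Ne.symm hw'.2.1)]; exact (hP2 _ _ _).le)
      · refine hb4.2.1 (hQinj _ _ ?_)
        rw [hQ4]
        exact Finset.eq_of_subset_of_card_le (by simp [Finset.insert_subset_iff, hu1.2, hw2])
          (by rw [Finset.card_pair (Ne.symm hw'.2.1)]; exact (hP2 _ _ _).le)
    · exact hb4.2.2 (hQinj _ _ ((third b4 h4).trans (third b3 h3).symm))
  -- the permutation
  have hother : ∀ b, ∃ w, w ≠ u ∧ Q b = {u, w} := fun b => by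
    obtain ⟨w, hw⟩ := Finset.card_eq_one.1
      (show ((Q b).erase u).card = 1 by rw [Finset.card_erase_of_mem (hu b), show (Q b).card = 2 from hP2 _ _ _])
    have hw' := Finset.mem_erase.1 (hw ▸ Finset.mem_singleton_self w)
    exact ⟨w, hw'.1, by rw [← Finset.insert_erase (hu b), hw]⟩
  choose w hwu hwQ using hother
  let f : GolayPt → GolayPt := fun p => if h : p ≠ none then w ⟨p, h⟩ else u
  have hf : Function.Injective f := by
    intro p q hpq
    simp only [f] at hpq
    split at hpq <;> split at hpq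
    · exact congrArg Subtype.val (hQinj _ _ ((hwQ _).trans ((congrArg (fun z => ({u, z} : Finset GolayPt)) hpq).trans (hwQ _).symm)))
    · exact absurd hpq (hwu _)
    · exact absurd hpq.symm (hwu _)
    · simp_all
  let τ : Equiv.Perm GolayPt := Equiv.ofBijective f (Finite.injective_iff_bijective.1 hf)
  have hrel : ∀ (c : ↥golayCode) (b : GolayPt), ((x c : ↥golayCode) : GolayPt → ZMod 2) b =
      (c : GolayPt → ZMod 2) (τ b) + ((x c : GolayPt → ZMod 2) none + (c : GolayPt → ZMod 2) u) := by
    intro c b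
    by_cases hb : b = none
    · subst hb
      have : τ none = u := by simp [τ, f]
      rw [this, add_comm, add_assoc, CharTwo.add_self_eq_zero, add_zero]
    · have hτ : τ b = w ⟨b, hb⟩ := by simp [τ, f, hb]
      have h := hP none b (Ne.symm hb) c
      rw [show P none b (Ne.symm hb) = Q ⟨b, hb⟩ from rfl, hwQ, Finset.sum_pair (Ne.symm (hwu _))] at h
      rw [hτ]
      linear_combination (norm := (ring_nf; simp [CharTwo.two_eq_zero])) h
  have hτM : τ⁻¹ ∈ M24 := by
    rw [mem_M24_iff]
    rintro s ⟨c, hc, rfl⟩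
    refine ⟨fun p => c (τ p), ?_, by rw [← word_perm]; simp [Equiv.Perm.inv_def]⟩
    have e : (fun p => c (τ p)) = ((x ⟨c, hc⟩ : ↥golayCode) : GolayPt → ZMod 2) +
        ((x ⟨c, hc⟩ : GolayPt → ZMod 2) none + c u) • (1 : GolayPt → ZMod 2) := by
      funext p
      simp only [Pi.add_apply, Pi.smul_apply, Pi.one_apply, smul_eq_mul, mul_one, hrel ⟨c, hc⟩ p,
        add_assoc, CharTwo.add_self_eq_zero, add_zero]
    rw [SetLike.mem_coe, e]
    exact golayCode.add_mem (x ⟨c, hc⟩).2 (golayCode.smul_mem _ one_mem)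
  refine ⟨τ⁻¹, hτM, fun c => ?_⟩
  rcases eq_zero_or_one ((x c : GolayPt → ZMod 2) none + (c : GolayPt → ZMod 2) u) with h | h
  · refine Or.inl (funext fun p => ?_)
    rw [hrel c p, h, add_zero]
    simp [Equiv.Perm.inv_def]
  · refine Or.inr (funext fun p => ?_)
    rw [hrel c p, h]
    simp [Equiv.Perm.inv_def]

end Cfsg.Agent.GolayModule
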