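import Cfsg.Agent.Lib.Golay.Mathieu
import Cfsg.Agent.Lib.GolayCocode.Extension

/-!
The cocode as a module for codeword stabilisers in M24: certificates that the images of `σ - 1`,
for a few `σ` fixing a given codeword, span the code.

Main results: `word_perm`, `supp_perm`, `not_fixed`.
-/

set_option autoImplicit false
open scoped Pointwise symmDiff
open Cfsg Cfsg.Agent.Golay

namespace Cfsg.Agent.GolayModule

def octPerms : List ℕ := [0x1a90dad2327866c31d70491d628057, 0x1d19584aef4b8e824d565b4462c420, 0x2a4d561dd244670a594b6bc64b8022]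

def octCombos : List ℕ := [0xa48e, 0x9408, 0x940d, 0xa488, 0xa498, 0x8407, 0xb4df, 0x1407, 0xb488, 0x808f, 0x940f, 0x3600]

def dodPerms : List ℕ := [0x5d557a42613d8802c5a67a1c313132, 0x5ced52c29289d04bb8467b14008da9, 0x7cd54736e0ac5125d8c9290e364041]

def dodCombos : List ℕ := [0x80, 0x1003, 0x1546, 0x91, 0x141, 0x57d, 0x3063, 0x481, 0x30be, 0x542, 0x141e, 0x1002]

def pairPerms : List ℕ := [0xb850e2d4e21ce86b2d908c88f6a540, 0xbb150324e2a15769c6ae1b5f220500, 0xbb9156ca309b1f6288f41a88b49820, 0xbcad152c482b081734ef4d473a40c0]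

/-- Coefficient `j` selects `r + σ r` for row `j % 12` and permutation `j / 12`. -/
def comboVal (L : List ℕ) (c : ℕ) : List ℕ → ℕ
  | [] => 0
  | j :: js => (bif c.testBit j then
      rows.getD (j % 12) 0 ^^^ imgMask (L.getD (j / 12) 0) (rows.getD (j % 12) 0) else 0) ^^^
      comboVal L c js

/-- The listed permutations fix `m`, and their differences span the code. -/
def spanOK (L C : List ℕ) (m : ℕ) : Bool :=
  L.all (fun d => isAut d && imgMask d m == m) && C.length == 12 &&
    (List.range 12).all fun i =>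
      comboVal L (C.getD i 0) (List.range (12 * L.length)) == rows.getD i 0

theorem octOK : spanOK octPerms octCombos octad0 = true := by decide +kernel

theorem dodOK : spanOK dodPerms dodCombos dodecad0 = true := by decide +kernel

theorem word_perm {g : Equiv.Perm GolayPt} (w : GolayPt → ZMod 2) :
    support₂ (fun p => w (g.symm p)) = g • support₂ w := by
  ext p
  rw [smul_eq_image, Finset.mem_image]
  simp only [support₂, Finset.mem_filter, Finset.mem_univ, true_and]
  exact ⟨fun h => ⟨g.symm p, h, g.apply_symm_apply p⟩,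
    fun ⟨q, hq, he⟩ => by rwa [← he, g.symm_apply_apply]⟩

/-- A word is fixed by `g` when its support is. -/
theorem supp_perm {g : Equiv.Perm GolayPt} {w : GolayPt → ZMod 2}
    (h : g • support₂ w = support₂ w) : (fun p => w (g.symm p)) = w :=
  eq_of_support₂_eq (by rw [word_perm, h])

theorem perm_mem {g : Equiv.Perm GolayPt} (hg : g ∈ M24) {w : GolayPt → ZMod 2}
    (hw : w ∈ golayCode) : (fun p => w (g.symm p)) ∈ golayCode := by
  obtain ⟨v, hv, hvs⟩ := smul_mem_supports hg ⟨w, hw, rfl⟩
  rw [← word_perm] at hvs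
  rwa [← eq_of_support₂_eq hvs]

theorem word_imgMask {d : ℕ} (hd : validPerm d = true) (m : ℕ) :
    word (imgMask d m) = fun p => word m ((toPerm d).symm p) :=
  eq_of_support₂_eq (by rw [word_perm, support₂_word, support₂_word, pts_imgMask hd])

/-- Some element fixing `pts m` moves the coset of `w` modulo the code. -/
theorem exists_moving {L C : List ℕ} {m : ℕ} (h : spanOK L C m = true) {w : GolayPt → ZMod 2}
    (hw : w ∉ golayCode) :
    ∃ σ ∈ M24, σ • pts m = pts m ∧ (fun p => w (σ.symm p)) - w ∉ golayCode := by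
  by_contra hcon
  push Not at hcon
  simp only [spanOK, Bool.and_eq_true, List.all_eq_true, beq_iff_eq] at h
  obtain ⟨⟨hL, -⟩, hC⟩ := h
  have hstep : ∀ d ∈ L, ∀ r ∈ rows, ∑ p, w p * word (r ^^^ imgMask d r) p = 0 := by
    intro d hd r hr
    obtain ⟨hda, hdm⟩ := hL d hd
    have hv := validPerm_of_isAut hda
    have hfix : toPerm d • pts m = pts m := by rw [← pts_imgMask hv, hdm]
    have hdiff := hcon _ (toPerm_mem_M24 hda) hfix
    have hr' : word r ∈ golayCode := rows_mem r hr
    have h1 := self_orthogonal hdiff (perm_mem (toPerm_mem_M24 hda) hr')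
    have e2 : ∑ p, w ((toPerm d).symm p) * word r ((toPerm d).symm p) = ∑ p, w p * word r p :=
      Equiv.sum_comp (toPerm d).symm fun p => w p * word r p
    simp only [Pi.sub_apply, sub_mul, Finset.sum_sub_distrib] at h1
    simp only [word_xor, Pi.add_apply, mul_add, Finset.sum_add_distrib, word_imgMask hv]
    rw [← e2, sub_eq_zero.1 h1]
    exact CharTwo.add_self_eq_zero _
  have hcombo : ∀ c, ∀ js : List ℕ, (∀ j ∈ js, j < 12 * L.length) →
      ∑ p, w p * word (comboVal L c js) p = 0 := by
    intro c js
    induction js with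
    | nil => intro _; simp [comboVal, word_zero]
    | cons j js ih =>
      intro hjs
      have ih' := ih fun i hi => hjs i (List.mem_cons_of_mem _ hi)
      simp only [comboVal]
      simp only [word_xor (a := cond _ _ _), Pi.add_apply, mul_add, Finset.sum_add_distrib, ih',
        add_zero]
      cases c.testBit j
      · simp [word_zero]
      · have hj : j / 12 < L.length := Nat.div_lt_of_lt_mul (hjs j List.mem_cons_self)
        have hmod : j % 12 < rows.length := Nat.mod_lt _ (by norm_num)
        simp only [cond_true]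
        rw [List.getD_eq_getElem L 0 hj, List.getD_eq_getElem rows 0 hmod]
        exact hstep _ (List.getElem_mem hj) _ (List.getElem_mem hmod)
  refine hw (GolayCocode.mem_golayCode_of_orth fun c hc => ?_)
  obtain ⟨x, -, rfl⟩ := mem_golayCode_iff.1 hc
  refine dot_word_encAux w rows (fun r hr => ?_) x
  obtain ⟨i, hi, rfl⟩ := List.getElem_of_mem hr
  have hi' : i < 12 := hi
  have he := hC i (List.mem_range.2 hi')
  rw [List.getD_eq_getElem rows 0 hi] at he
  rw [← he]
  exact hcombo _ _ fun j hj => List.mem_range.1 hj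

/-- The codeword stabiliser fixes no nonzero coset of the code. -/
theorem not_fixed {u w : GolayPt → ZMod 2} (hu : u ∈ golayCode) (hw : w ∉ golayCode) :
    ∃ σ ∈ M24, (fun p => u (σ.symm p)) = u ∧ (fun p => w (σ.symm p)) - w ∉ golayCode := by
  classical
  set s := support₂ u with hs
  have hsupp : s ∈ supports (golayCode : Set (GolayPt → ZMod 2)) := ⟨u, hu, rfl⟩
  -- it is enough to find a conjugate of a certified set fixed along with the support
  suffices key : ∃ L C m k, spanOK L C m = true ∧ k ∈ M24 ∧
      ∀ σ : Equiv.Perm GolayPt, σ • (k • pts m) = k • pts m → σ • s = s by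
    obtain ⟨L, C, m, k, hOK, hk, hkey⟩ := key
    have hw' : (fun p => w (k p)) ∉ golayCode := fun h => by
      refine hw ?_
      have h2 := perm_mem hk h
      simpa using h2
    obtain ⟨σ, hσ, hσm, hmove⟩ := exists_moving hOK hw'
    refine ⟨k * σ * k⁻¹, mul_mem (mul_mem hk hσ) (inv_mem hk), supp_perm (hkey _ ?_), fun h => hmove ?_⟩
    · rw [smul_smul, mul_assoc, inv_mul_cancel, mul_one, ← smul_smul, hσm]
    · have h2 := perm_mem (inv_mem hk) h
      have e : (fun p => w (k (σ.symm p))) - (fun p => w (k p)) =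
          fun p => ((fun p => w ((k * σ * k⁻¹).symm p)) - w) ((k⁻¹).symm p) := by
        funext p
        simp [Equiv.Perm.inv_def, Equiv.Perm.mul_def]
      simpa only [← e] using h2
  have huniv : ∀ σ : Equiv.Perm GolayPt, σ • (Finset.univ : Finset GolayPt) = Finset.univ :=
    fun σ => Finset.smul_finset_univ
  have hoct : pts octad0 ∈ octads := octad0_mem
  rcases card_mem_weights hsupp with h | h | h | h | h
  · exact ⟨_, _, _, 1, octOK, one_mem _, fun σ _ => by simp [Finset.card_eq_zero.1 h]⟩
  · obtain ⟨k, hk, hke⟩ := exists_map_octad hoct (show s ∈ octads from ⟨hsupp, h⟩)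
    exact ⟨_, _, _, k, octOK, hk, fun σ hσ => by rwa [hke] at hσ⟩
  · obtain ⟨k, hk, hke⟩ := exists_map_dodecad dodecad0_mem (show s ∈ dodecads from ⟨hsupp, h⟩)
    exact ⟨_, _, _, k, dodOK, hk, fun σ hσ => by rwa [hke] at hσ⟩
  · have h8 : sᶜ ∈ octads := ⟨compl_mem hsupp, by simp [Finset.card_compl, h]⟩
    obtain ⟨k, hk, hke⟩ := exists_map_octad hoct h8
    refine ⟨_, _, _, k, octOK, hk, fun σ hσ => ?_⟩
    rw [hke] at hσ
    refine Finset.eq_of_subset_of_card_le (fun y hy => ?_) (by rw [Finset.card_smul_finset])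
    by_contra hys
    have hy2 : y ∈ σ • sᶜ := by rw [hσ]; exact Finset.mem_compl.2 hys
    rw [smul_eq_image, Finset.mem_image] at hy hy2
    obtain ⟨a, ha, rfl⟩ := hy
    obtain ⟨b, hb, hbe⟩ := hy2
    rw [σ.injective hbe] at hb
    exact Finset.mem_compl.1 hb ha
  · exact ⟨_, _, _, 1, octOK, one_mem _, fun σ _ => by
      rw [Finset.eq_univ_of_card s (by simp [h])]; exact huniv σ⟩

theorem pair_check : (pairPerms.all fun d => isAut d && fn d 23 == 23 && fn d 0 == 0) = true ∧
    allSpan (fun m => m == 0 || m == 16777215 || pairPerms.any fun d =>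
      !((imgMask d m ^^^ m) == 0 || (imgMask d m ^^^ m) == 16777215)) rows 0 = true := by
  constructor <;> decide +kernel

end Cfsg.Agent.GolayModule
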