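import Cfsg.Agent.Lib.GolayModule.Duads
import Cfsg.Agent.Lib.Golay.M24

/-!
Recognition of M24 from a labelling of an elementary subgroup of order 2048 by the even words modulo
the code, with an invariant set labelled by the pairs (helper85).

* `exists_perm_of_pair_map` : a map of the 2-sets keeping "meet in one point" comes from a permutation
* `Label` : the labelling
* `Label.isoM24` : the normaliser modulo `V` is M24
-/

set_option autoImplicit false
open scoped Pointwise symmDiff
open Cfsg Cfsg.Agent.Golay

namespace Cfsg.Agent.GolayModule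

section star

variable {α : Type*} [Fintype α] [DecidableEq α]

/-- At least four distinct pairs, any two meeting in one point, have a common point. -/
theorem exists_common {ι : Type*} [Fintype ι] (hι : 4 ≤ Fintype.card ι) (Q : ι → Finset α)
    (h2 : ∀ b, (Q b).card = 2) (hinj : Function.Injective Q)
    (hmeet : ∀ b b', b ≠ b' → (Q b ∩ Q b').card = 1) : ∃ u, ∀ b, u ∈ Q b := by
  classical
  obtain ⟨b1, b2, h12⟩ := Fintype.exists_pair_of_one_lt_card (show 1 < Fintype.card ι by omega)
  obtain ⟨u, hu⟩ := Finset.card_eq_one.1 (hmeet b1 b2 h12)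
  have hu1 : u ∈ Q b1 ∧ u ∈ Q b2 := Finset.mem_inter.1 (hu ▸ Finset.mem_singleton_self u)
  refine ⟨u, fun b3 => ?_⟩
  by_contra h3
  -- a pair missing the point is forced to be the third side of a triangle
  have third : ∀ b, u ∉ Q b → Q b = (Q b1 ∪ Q b2).erase u := by
    intro b hb
    have n1 : b1 ≠ b := fun h => hb (h ▸ hu1.1)
    have n2 : b2 ≠ b := fun h => hb (h ▸ hu1.2)
    obtain ⟨y, hy⟩ := Finset.card_eq_one.1 (hmeet b1 b n1)
    obtain ⟨z, hz⟩ := Finset.card_eq_one.1 (hmeet b2 b n2)
    have hy' : y ∈ Q b1 ∧ y ∈ Q b := Finset.mem_inter.1 (hy ▸ Finset.mem_singleton_self y)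
    have hz' : z ∈ Q b2 ∧ z ∈ Q b := Finset.mem_inter.1 (hz ▸ Finset.mem_singleton_self z)
    have hyz : y ≠ z := fun h => by
      have : y ∈ Q b1 ∩ Q b2 := Finset.mem_inter.2 ⟨hy'.1, h ▸ hz'.1⟩
      rw [hu, Finset.mem_singleton] at this
      exact hb (this ▸ hy'.2)
    have hQb : Q b = {y, z} := (Finset.eq_of_subset_of_card_le
      (by simp [Finset.insert_subset_iff, hy'.2, hz'.2])
      (by rw [Finset.card_pair hyz]; exact (h2 b).le)).symm
    have hyu : y ≠ u := fun h => hb (h ▸ hy'.2)
    have hzu : z ≠ u := fun h => hb (h ▸ hz'.2)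
    rw [hQb]
    refine Finset.eq_of_subset_of_card_le (fun p hp => ?_) ?_
    · rcases Finset.mem_insert.1 hp with rfl | hp
      · exact Finset.mem_erase.2 ⟨hyu, Finset.mem_union_left _ hy'.1⟩
      · rw [Finset.mem_singleton.1 hp]
        exact Finset.mem_erase.2 ⟨hzu, Finset.mem_union_right _ hz'.1⟩
    · have h22 := Finset.card_union_add_card_inter (Q b1) (Q b2)
      rw [hu, Finset.card_singleton, h2, h2] at h22
      rw [Finset.card_erase_of_mem (Finset.mem_union_left _ hu1.1), Finset.card_pair hyz]
      omega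
  obtain ⟨b4, -, hb4⟩ := Finset.exists_mem_notMem_of_card_lt_card
    (show ({b1, b2, b3} : Finset ι).card < (Finset.univ : Finset ι).card from
      lt_of_le_of_lt Finset.card_le_three (by rw [Finset.card_univ]; omega))
  simp only [Finset.mem_insert, Finset.mem_singleton, not_or] at hb4
  by_cases h4 : u ∈ Q b4
  · obtain ⟨w, hw⟩ := Finset.card_eq_one.1 (hmeet b4 b3 hb4.2.2)
    have hw' : w ∈ Q b4 ∧ w ∈ Q b3 := Finset.mem_inter.1 (hw ▸ Finset.mem_singleton_self w)
    rw [third b3 h3, Finset.mem_erase, Finset.mem_union] at hw'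
    have hQ4 : ∀ b, u ∈ Q b → w ∈ Q b → Q b = {u, w} := fun b hub hwb =>
      (Finset.eq_of_subset_of_card_le (by simp [Finset.insert_subset_iff, hub, hwb])
        (by rw [Finset.card_pair (Ne.symm hw'.2.1)]; exact (h2 b).le)).symm
    rcases hw'.2.2 with hw1 | hw2
    · exact hb4.1 (hinj ((hQ4 b4 h4 hw'.1).trans (hQ4 b1 hu1.1 hw1).symm))
    · exact hb4.2.1 (hinj ((hQ4 b4 h4 hw'.1).trans (hQ4 b2 hu1.2 hw2).symm))
  · exact hb4.2.2 (hinj ((third b4 h4).trans (third b3 h3).symm))

/-- A map of the 2-sets keeping "meet in one point" comes from a permutation. -/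
theorem exists_perm_of_pair_map (hα : 5 ≤ Fintype.card α) (f : Finset α → Finset α)
    (h2 : ∀ s, s.card = 2 → (f s).card = 2)
    (hinj : ∀ s t, s.card = 2 → t.card = 2 → f s = f t → s = t)
    (hmeet : ∀ a b c : α, a ≠ b → a ≠ c → b ≠ c → (f {a, b} ∩ f {a, c}).card = 1) :
    ∃ σ : Equiv.Perm α, ∀ a b, a ≠ b → f {a, b} = {σ a, σ b} := by
  classical
  have hstar : ∀ a, ∃ u, ∀ b, a ≠ b → u ∈ f {a, b} := by
    intro a
    have hι : 4 ≤ Fintype.card {b : α // a ≠ b} := by
      rw [Fintype.card_subtype_compl, Fintype.card_subtype_eq']; omega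
    have hQ : Function.Injective fun b : {b : α // a ≠ b} => f {a, b.1} := fun b b' h => by
      have h' := hinj _ _ (Finset.card_pair b.2) (Finset.card_pair b'.2) h
      refine Subtype.ext ?_
      have hb : b.1 ∈ ({a, b'.1} : Finset α) := h' ▸ by simp
      rcases Finset.mem_insert.1 hb with e | e
      · exact absurd e.symm b.2
      · exact Finset.mem_singleton.1 e
    obtain ⟨u, hu⟩ := exists_common hι (fun b => f {a, b.1})
      (fun b => h2 _ (Finset.card_pair b.2)) hQ
      (fun b b' h => hmeet a b.1 b'.1 b.2 b'.2 fun e => h (Subtype.ext e))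
    exact ⟨u, fun b hb => hu ⟨b, hb⟩⟩
  choose u hu using hstar
  have huinj : Function.Injective u := by
    intro a b hab
    by_contra hne
    obtain ⟨d, -, hd⟩ := Finset.exists_mem_notMem_of_card_lt_card
      (show ({a, b} : Finset α).card < (Finset.univ : Finset α).card by
        rw [Finset.card_pair hne, Finset.card_univ]; omega)
    simp only [Finset.mem_insert, Finset.mem_singleton, not_or] at hd
    -- too many pairs through one point
    let dom : Finset (Finset α) := insert {b, d} ((Finset.univ.erase a).image fun c => {a, c})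
    have hdom : ∀ s ∈ dom, s.card = 2 ∧ u a ∈ f s := by
      intro s hs
      rcases Finset.mem_insert.1 hs with rfl | hs
      · exact ⟨Finset.card_pair (Ne.symm hd.2), hab ▸ hu b d (Ne.symm hd.2)⟩
      · obtain ⟨c, hc, rfl⟩ := Finset.mem_image.1 hs
        have hac : a ≠ c := Ne.symm (Finset.ne_of_mem_erase hc)
        exact ⟨Finset.card_pair hac, hu a c hac⟩
    have hcard : dom.card = Fintype.card α := by
      rw [Finset.card_insert_of_notMem, Finset.card_image_of_injOn,
        Finset.card_erase_of_mem (Finset.mem_univ a), Finset.card_univ]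
      · omega
      · intro c hc c' hc' h
        have hac : c ≠ a := Finset.ne_of_mem_erase hc
        have : c ∈ ({a, c'} : Finset α) := (show ({a, c} : Finset α) = {a, c'} from h) ▸ by simp
        rcases Finset.mem_insert.1 this with e | e
        · exact absurd e hac
        · exact Finset.mem_singleton.1 e
      · intro h
        obtain ⟨c, -, hc⟩ := Finset.mem_image.1 h
        have : a ∈ ({b, d} : Finset α) := hc ▸ by simp
        rcases Finset.mem_insert.1 this with e | e
        · exact hne e
        · exact hd.1 (Finset.mem_singleton.1 e).symm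
    have hle : (dom.image f).card ≤ ((Finset.univ.erase (u a)).image fun c => ({u a, c} : Finset α)).card := by
      refine Finset.card_le_card fun s hs => ?_
      obtain ⟨t, ht, rfl⟩ := Finset.mem_image.1 hs
      obtain ⟨ht2, htu⟩ := hdom t ht
      obtain ⟨w, hw⟩ := Finset.card_eq_one.1
        (show ((f t).erase (u a)).card = 1 by rw [Finset.card_erase_of_mem htu, h2 t ht2])
      have hw' := Finset.mem_erase.1 (hw ▸ Finset.mem_singleton_self w)
      exact Finset.mem_image.2 ⟨w, Finset.mem_erase.2 ⟨hw'.1, Finset.mem_univ _⟩,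
        by rw [← hw, Finset.insert_erase htu]⟩
    rw [Finset.card_image_of_injOn fun s hs t ht h => hinj s t (hdom s hs).1 (hdom t ht).1 h,
      hcard] at hle
    have hle' := hle.trans Finset.card_image_le
    rw [Finset.card_erase_of_mem (Finset.mem_univ _), Finset.card_univ] at hle'
    omega
  refine ⟨Equiv.ofBijective u (Finite.injective_iff_bijective.1 huinj), fun a b hab => ?_⟩
  simp only [Equiv.ofBijective_apply]
  refine (Finset.eq_of_subset_of_card_le ?_ ?_).symm
  · intro p hp
    rcases Finset.mem_insert.1 hp with rfl | hp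
    · exact hu a b hab
    · rw [Finset.mem_singleton.1 hp]
      exact Finset.pair_comm b a ▸ hu b a (Ne.symm hab)
  · rw [Finset.card_pair (huinj.ne hab), h2 _ (Finset.card_pair hab)]

end star

/-- A word with an even number of points. -/
def Even₂ (w : GolayPt → ZMod 2) : Prop := ∑ p, w p = 0

theorem pair_eq_indW {a b : GolayPt} (h : a ≠ b) : pair a b = indW {a, b} := by
  funext p
  by_cases ha : p = a
  · subst ha; simp [pair, indW, Pi.single_eq_of_ne h]
  by_cases hb : p = b
  · subst hb; simp [pair, indW, Pi.single_eq_of_ne (Ne.symm h)]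
  simp [pair, indW, ha, hb]

theorem even₂_pair (a b : GolayPt) : Even₂ (pair a b) := by
  unfold Even₂ pair
  simp [Finset.sum_add_distrib, CharTwo.add_self_eq_zero]

theorem even₂_indW {S : Finset GolayPt} (h : Even S.card) : Even₂ (indW S) := by
  have e := sum_indW S fun _ => 1
  simp only [mul_one, Finset.sum_const, nsmul_eq_mul] at e
  rw [Even₂, e]
  exact ZMod.natCast_eq_zero_iff_even.2 h

theorem indW_add (S T : Finset GolayPt) : indW S + indW T = indW (S ∆ T) := by
  funext p
  by_cases h1 : p ∈ S <;> by_cases h2 : p ∈ T <;>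
    simp [indW, Finset.mem_symmDiff, h1, h2, CharTwo.add_self_eq_zero]

/-- An even word is the sum of pairs at a fixed point. -/
theorem eq_sum_pair {w : GolayPt → ZMod 2} (h : Even₂ w) :
    w = ∑ p, if w p = 1 then pair p none else 0 := by
  have e : ∀ p, (if w p = 1 then pair p none else 0) = w p • pair p none := fun p => by
    rcases eq_zero_or_one (w p) with h | h <;> simp [h]
  rw [Finset.sum_congr rfl fun p _ => e p]
  funext q
  simp only [Finset.sum_apply, Pi.smul_apply, smul_eq_mul, pair, Pi.add_apply, mul_add,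
    Finset.sum_add_distrib]
  rw [Finset.sum_eq_single q (fun p _ hp => by simp [Pi.single_eq_of_ne (Ne.symm hp)]) (by simp),
    Pi.single_eq_same, mul_one, ← Finset.sum_mul, h, zero_mul, add_zero]

variable {G : Type*} [Group G] (V : Subgroup G)

/-- A labelling of `V` by even words modulo the code, and of an invariant set by the pairs. -/
structure Label (T : Set G) where
  phi : (GolayPt → ZMod 2) → G
  mem : ∀ w, phi w ∈ V
  map_add : ∀ v w, phi (v + w) = phi v * phi w
  surj : ∀ x ∈ V, ∃ w, Even₂ w ∧ phi w = x
  ker : ∀ w, Even₂ w → (phi w = 1 ↔ w ∈ golayCode)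
  pair_mem : ∀ a b, a ≠ b → phi (pair a b) ∈ T
  exists_pair : ∀ x ∈ T, ∃ a b, a ≠ b ∧ phi (pair a b) = x
  inv : ∀ n ∈ Subgroup.normalizer (V : Set G), ∀ x ∈ T, n * x * n⁻¹ ∈ T

namespace Label

variable {V} {T : Set G} (L : Label V T)

theorem map_zero : L.phi 0 = 1 := by
  have h := L.map_add 0 0
  rwa [add_zero, left_eq_mul] at h

/-- Two short even sets with the same label are equal. -/
theorem indW_inj {S S' : Finset GolayPt} (h8 : S.card + S'.card < 8) (hS : Even S.card)
    (hS' : Even S'.card) (h : L.phi (indW S) = L.phi (indW S')) : S = S' := by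
  have hdd : indW S' + indW S' = 0 := by funext p; simp [CharTwo.add_self_eq_zero]
  have he : Even₂ (indW S + indW S') := by
    unfold Even₂
    simp only [Pi.add_apply, Finset.sum_add_distrib]
    rw [show ∑ p, indW S p = 0 from even₂_indW hS, show ∑ p, indW S' p = 0 from even₂_indW hS', add_zero]
  have hmem : indW S + indW S' ∈ golayCode := (L.ker _ he).1 (by
    rw [L.map_add, h, ← L.map_add, hdd, L.map_zero])
  rw [indW_add] at hmem
  have hle : (S ∆ S').card < 8 :=
    lt_of_le_of_lt ((Finset.card_le_card (by intro p; simp [Finset.mem_symmDiff]; tauto :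
      S ∆ S' ⊆ S ∪ S')).trans (Finset.card_union_le S S')) h8
  exact symmDiff_eq_bot.1 (eq_empty_of_indW_mem hmem hle)

/-- Conjugation by the normaliser is given by a permutation. -/
theorem exists_perm {n : G} (hn : n ∈ Subgroup.normalizer (V : Set G)) :
    ∃ σ : Equiv.Perm GolayPt, ∀ a b, a ≠ b →
      L.phi (pair (σ a) (σ b)) = n * L.phi (pair a b) * n⁻¹ := by
  classical
  have hex : ∀ s : Finset GolayPt, ∃ t : Finset GolayPt,
      s.card = 2 → t.card = 2 ∧ L.phi (indW t) = n * L.phi (indW s) * n⁻¹ := fun s => by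
    by_cases hs : s.card = 2
    · obtain ⟨a, b, hab, rfl⟩ := Finset.card_eq_two.1 hs
      obtain ⟨c, d, hcd, he⟩ := L.exists_pair _ (L.inv n hn _ (L.pair_mem a b hab))
      rw [pair_eq_indW hcd, pair_eq_indW hab] at he
      exact ⟨{c, d}, fun _ => ⟨Finset.card_pair hcd, he⟩⟩
    · exact ⟨∅, fun h => absurd h hs⟩
  choose f hf using hex
  have hinj : ∀ s t, s.card = 2 → t.card = 2 → f s = f t → s = t := fun s t hs ht h =>
    L.indW_inj (by omega) (hs ▸ even_two) (ht ▸ even_two)
      (mul_left_cancel (mul_right_cancel (((hf s hs).2.symm.trans (by rw [h])).trans (hf t ht).2)))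
  obtain ⟨σ, hσ⟩ := exists_perm_of_pair_map (by simp [GolayPt]) f (fun s hs => (hf s hs).1) hinj
    fun a b c hab hac hbc => by
      obtain ⟨h1, e1⟩ := hf _ (Finset.card_pair hab)
      obtain ⟨h2, e2⟩ := hf _ (Finset.card_pair hac)
      obtain ⟨h3, e3⟩ := hf _ (Finset.card_pair hbc)
      have hsum : indW {a, b} + indW {a, c} = indW {b, c} := by
        rw [indW_add]
        congr 1
        ext p
        simp only [Finset.mem_symmDiff, Finset.mem_insert, Finset.mem_singleton]
        constructor
        · tauto
        · rintro (rfl | rfl) <;> simp_all [Ne.symm]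
      have hkey := L.indW_inj (S := f {a, b} ∆ f {a, c}) (S' := f {b, c}) ?_ ?_ (h3 ▸ even_two) ?_
      · have h4 := Finset.card_union_add_card_inter (f {a, b}) (f {a, c})
        have h5 : (f {a, b} ∆ f {a, c}).card + (f {a, b} ∩ f {a, c}).card =
            (f {a, b} ∪ f {a, c}).card := by
          rw [← Finset.card_union_of_disjoint]
          · congr 1
            ext p
            simp only [Finset.mem_union, Finset.mem_symmDiff, Finset.mem_inter]
            tauto
          · rw [Finset.disjoint_left]
            simp only [Finset.mem_symmDiff, Finset.mem_inter]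
            tauto
        rw [hkey] at h5
        omega
      · have h4 : (f {a, b} ∆ f {a, c}).card ≤ (f {a, b}).card + (f {a, c}).card :=
          (Finset.card_le_card (by intro p; simp [Finset.mem_symmDiff]; tauto :
            f {a, b} ∆ f {a, c} ⊆ f {a, b} ∪ f {a, c})).trans (Finset.card_union_le _ _)
        omega
      · have h4 := Finset.card_union_add_card_inter (f {a, b}) (f {a, c})
        have h5 : (f {a, b} ∆ f {a, c}).card + (f {a, b} ∩ f {a, c}).card =
            (f {a, b} ∪ f {a, c}).card := by
          rw [← Finset.card_union_of_disjoint]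
          · congr 1
            ext p
            simp only [Finset.mem_union, Finset.mem_symmDiff, Finset.mem_inter]
            tauto
          · rw [Finset.disjoint_left]
            simp only [Finset.mem_symmDiff, Finset.mem_inter]
            tauto
        exact Nat.even_iff.2 (by omega)
      · rw [← indW_add, L.map_add, e1, e2, e3, ← hsum, L.map_add]
        group
  refine ⟨σ, fun a b hab => ?_⟩
  rw [pair_eq_indW hab, pair_eq_indW (σ.injective.ne hab), ← hσ a b hab]
  exact (hf _ (Finset.card_pair hab)).2

/-- The permutation moves all even words correctly. -/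
theorem perm_even {n : G} {σ : Equiv.Perm GolayPt}
    (h : ∀ a b, a ≠ b → L.phi (pair (σ a) (σ b)) = n * L.phi (pair a b) * n⁻¹)
    {w : GolayPt → ZMod 2} (hw : Even₂ w) :
    L.phi (fun p => w (σ.symm p)) = n * L.phi w * n⁻¹ := by
  rw [eq_sum_pair hw]
  refine Finset.sum_induction _
    (fun v => L.phi (fun p => v (σ.symm p)) = n * L.phi v * n⁻¹) ?_ ?_ fun p _ => ?_
  · intro u v hu hv
    show L.phi ((fun p => u (σ.symm p)) + fun p => v (σ.symm p)) = _
    rw [L.map_add, L.map_add, hu, hv]
    group
  · show L.phi 0 = _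
    rw [L.map_zero]
    group
  · have hz : L.phi (fun q => (0 : GolayPt → ZMod 2) (σ.symm q)) = n * L.phi 0 * n⁻¹ := by
      show L.phi 0 = _
      rw [L.map_zero]
      group
    split
    · by_cases hp : p = none
      · have e : pair p none = 0 := by
          subst hp; funext q; simp [pair, CharTwo.add_self_eq_zero]
        rwa [e]
      · rw [pair_apply_perm]
        exact h p none hp
    · exact hz

theorem even₂_of_mem {w : GolayPt → ZMod 2} (h : w ∈ golayCode) : Even₂ w := by
  have e : ∑ p, w p = ((support₂ w).card : ZMod 2) := by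
    conv_lhs => rw [← indW_support₂ w]
    have := sum_indW (support₂ w) fun _ => 1
    simpa using this
  rw [Even₂, e, ZMod.natCast_eq_zero_iff_even, card_support₂]
  rcases weights h with e | e | e | e | e <;> rw [e] <;> decide

theorem perm_mem_M24 {n : G} {σ : Equiv.Perm GolayPt}
    (h : ∀ a b, a ≠ b → L.phi (pair (σ a) (σ b)) = n * L.phi (pair a b) * n⁻¹) : σ ∈ M24 := by
  rw [mem_M24_iff]
  rintro s ⟨w, hw, rfl⟩
  have he := even₂_of_mem hw
  have hev : Even₂ fun p => w (σ.symm p) := by
    unfold Even₂
    rw [Equiv.sum_comp σ.symm w]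
    exact he
  refine ⟨fun p => w (σ.symm p), (L.ker _ hev).1 ?_, word_perm w⟩
  rw [L.perm_even h he, (L.ker _ he).2 hw]
  group

/-- A permutation is determined by its pairs. -/
theorem perm_unique {σ τ : Equiv.Perm GolayPt}
    (h : ∀ a b, a ≠ b → L.phi (pair (σ a) (σ b)) = L.phi (pair (τ a) (τ b))) : σ = τ := by
  have hs : ∀ a b, a ≠ b → ({σ a, σ b} : Finset GolayPt) = {τ a, τ b} := fun a b hab => by
    have h' := h a b hab
    rw [pair_eq_indW (σ.injective.ne hab), pair_eq_indW (τ.injective.ne hab)] at h'
    refine L.indW_inj ?_ ?_ ?_ h' <;>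
      simp [Finset.card_pair (σ.injective.ne hab), Finset.card_pair (τ.injective.ne hab)]
  refine Equiv.ext fun a => ?_
  obtain ⟨b, -, hb⟩ := Finset.exists_mem_notMem_of_card_lt_card
    (show ({a} : Finset GolayPt).card < (Finset.univ : Finset GolayPt).card by simp [GolayPt])
  rw [Finset.mem_singleton] at hb
  obtain ⟨c, -, hc⟩ := Finset.exists_mem_notMem_of_card_lt_card
    (show ({a, b} : Finset GolayPt).card < (Finset.univ : Finset GolayPt).card by
      rw [Finset.card_pair (Ne.symm hb)]; simp [GolayPt])
  simp only [Finset.mem_insert, Finset.mem_singleton, not_or] at hc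
  have hB : σ a ∈ ({τ a, τ b} : Finset GolayPt) := hs a b (Ne.symm hb) ▸ by simp
  have hC : σ a ∈ ({τ a, τ c} : Finset GolayPt) := hs a c (Ne.symm hc.1) ▸ by simp
  simp only [Finset.mem_insert, Finset.mem_singleton] at hB hC
  rcases hB with e | e
  · exact e
  rcases hC with e' | e'
  · exact e'
  exact absurd (τ.injective (e'.symm.trans e)) hc.2

include L in
/-- The normaliser modulo `V` is M24. -/
theorem isoM24 [Finite G] (hcent : Subgroup.centralizer (V : Set G) ≤ V)
    (hV : ∀ a ∈ V, ∀ b ∈ V, a * b = b * a) (hVcard : Nat.card ↥V = 2 ^ 11)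
    (hN : Nat.card ↥(Subgroup.normalizer (V : Set G)) = 2 ^ 11 * 244823040)
    [(V.subgroupOf (Subgroup.normalizer (V : Set G))).Normal] :
    Spor.IsoM24 (↥(Subgroup.normalizer (V : Set G)) ⧸ V.subgroupOf (Subgroup.normalizer (V : Set G))) := by
  classical
  set N := Subgroup.normalizer (V : Set G) with hNdef
  choose s hs using fun n : ↥N => L.exists_perm n.2
  let θ : ↥N →* ↥M24 := MonoidHom.mk' (fun n => ⟨s n, L.perm_mem_M24 (hs n)⟩) fun x y =>
    Subtype.ext (L.perm_unique fun a b hab => by
      show _ = L.phi (pair (s x (s y a)) (s x (s y b)))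
      rw [hs (x * y) a b hab, hs x _ _ ((s y).injective.ne hab), hs y a b hab, Subgroup.coe_mul]
      group)
  have hker : θ.ker = V.subgroupOf N := by
    ext n
    rw [MonoidHom.mem_ker, Subgroup.mem_subgroupOf]
    constructor
    · intro h
      have h1 : s n = 1 := congrArg Subtype.val h
      refine hcent (Subgroup.mem_centralizer_iff.2 fun x hx => ?_)
      obtain ⟨w, hw, rfl⟩ := L.surj x hx
      have e := L.perm_even (hs n) hw
      rw [h1] at e
      exact (mul_inv_eq_iff_eq_mul.1 (show (n : G) * L.phi w * (n : G)⁻¹ = L.phi w from e.symm)).symm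
    · intro h
      refine Subtype.ext (L.perm_unique fun a b hab => ?_)
      show L.phi (pair (s n a) (s n b)) = L.phi (pair a b)
      rw [hs n a b hab, hV _ h _ (L.mem _), mul_inv_cancel_right]
  have hsurj : Function.Surjective θ := by
    have hle : V ≤ N := Subgroup.le_normalizer
    have h := Subgroup.index_ker θ
    rw [← MonoidHom.range_eq_top, ← Subgroup.card_eq_iff_eq_top, natCard_M24, ← h, hker]
    have hmul := Subgroup.card_mul_index (V.subgroupOf N)
    rw [Nat.card_congr (Subgroup.subgroupOfEquivOfLe hle).toEquiv, hVcard, hN] at hmul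
    omega
  exact ⟨(QuotientGroup.quotientMulEquivOfEq hker.symm).trans
    (QuotientGroup.quotientKerEquivOfSurjective θ hsurj)⟩

end Label

end Cfsg.Agent.GolayModule
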