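import Cfsg.Agent.Lib.GolayModule.Basic
import Cfsg.Agent.Lib.GolayCosets.Basic

/-!
The subspaces of binary words of length 24 invariant under M24.

Main result: `invariant_cases`.
-/

set_option autoImplicit false
open scoped Pointwise symmDiff
open Cfsg Cfsg.Agent.Golay

namespace Cfsg.Agent.GolayModule

variable {W : Submodule (ZMod 2) (GolayPt → ZMod 2)}

theorem eq_zero_or_one (a : ZMod 2) : a = 0 ∨ a = 1 :=
  (by decide : ∀ a : ZMod 2, a = 0 ∨ a = 1) a

theorem add_self_word (w : GolayPt → ZMod 2) : w + w = 0 :=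
  funext fun p => CharTwo.add_self_eq_zero (w p)

theorem sub_eq_add_word (v w : GolayPt → ZMod 2) : v - w = v + w :=
  funext fun p => CharTwo.sub_eq_add (v p) (w p)

/-- Invariance read on supports. -/
theorem word_mem_of_smul (hW : ∀ σ ∈ M24, ∀ w ∈ W, (fun p => w (σ.symm p)) ∈ W) {a b : ℕ}
    {g : Equiv.Perm GolayPt} (hg : g ∈ M24) (ha : word a ∈ W) (h : g • pts a = pts b) :
    word b ∈ W := by
  have h2 := hW g hg _ ha
  rwa [eq_of_support₂_eq (show support₂ (fun p => word a (g.symm p)) = support₂ (word b) by
    rw [word_perm, support₂_word, support₂_word, h])] at h2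

theorem octad_data : isCode 0xaf101f = true ∧ popcount 0xaf101f = 12 ∧
    (isCode (dodecad0 ^^^ 0xaf101f) = true ∧ popcount (dodecad0 ^^^ 0xaf101f) = 8) ∧
    isCode 0xc75001 = true ∧ popcount 0xc75001 = 8 ∧
    isCode (octad0 ^^^ 0xc75001) = true ∧ popcount (octad0 ^^^ 0xc75001) = 8 := by
  decide +kernel

/-- An invariant subspace with a nontrivial code word contains the code. -/
theorem code_le (hW : ∀ σ ∈ M24, ∀ w ∈ W, (fun p => w (σ.symm p)) ∈ W)
    {c : GolayPt → ZMod 2} (hc : c ∈ golayCode) (hcW : c ∈ W) (h0 : c ≠ 0) (h1 : c ≠ 1) :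
    golayCode ≤ W := by
  have hone : ∀ {w : GolayPt → ZMod 2}, support₂ w = Finset.univ → w = 1 := fun h =>
    eq_of_support₂_eq (by rw [h]; exact (Finset.filter_true_of_mem fun _ _ => by simp).symm)
  obtain ⟨hd1, hd12, ⟨hx, hx8⟩, ho1, ho8, hy, hy8⟩ := octad_data
  have hcm : word (maskOf (support₂ c)) ∈ W := by rwa [word_maskOf_support₂]
  have hsupp : support₂ c ∈ supports (golayCode : Set (GolayPt → ZMod 2)) := ⟨c, hc, rfl⟩
  -- an octad lies in the subspace
  have hoct : ∃ m, pts m ∈ octads ∧ word m ∈ W := by
    rcases card_mem_weights hsupp with h | h | h | h | h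
    · exact absurd (eq_of_support₂_eq (w := (0 : GolayPt → ZMod 2))
        (by rw [Finset.card_eq_zero.1 h]; simp [support₂])) h0
    · exact ⟨_, by rw [pts_maskOf]; exact ⟨hsupp, h⟩, hcm⟩
    · have hd : pts (maskOf (support₂ c)) ∈ dodecads := by rw [pts_maskOf]; exact ⟨hsupp, h⟩
      have hD1 : pts 0xaf101f ∈ dodecads := pts_mem_dodecads (by simp [hd1, hd12])
      obtain ⟨g, hg, hge⟩ := exists_map_dodecad hd dodecad0_mem
      obtain ⟨g', hg', hge'⟩ := exists_map_dodecad hd hD1
      refine ⟨dodecad0 ^^^ 0xaf101f, pts_mem_octads (by simp [hx, hx8]), ?_⟩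
      rw [word_xor]
      exact W.add_mem (word_mem_of_smul hW hg hcm hge) (word_mem_of_smul hW hg' hcm hge')
    · have h8 : (support₂ c)ᶜ ∈ octads := ⟨compl_mem hsupp, by simp [Finset.card_compl, h]⟩
      obtain ⟨g, hg, hge⟩ := exists_map_octad h8 octad0_mem
      obtain ⟨g', hg', hge'⟩ := exists_map_octad h8
        (pts_mem_octads (by simp [ho1, ho8] : (isCode 0xc75001 && popcount 0xc75001 == 8) = true))
      refine ⟨octad0 ^^^ 0xc75001, pts_mem_octads (by simp [hy, hy8]), ?_⟩
      -- the two translates differ by the same word as the complementary octads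
      have hcompl : ∀ {g : Equiv.Perm GolayPt} {o : ℕ}, g • (support₂ c)ᶜ = pts o →
          (fun p => c (g.symm p)) = 1 + word o := by
        intro g o hgo
        funext p
        have hp : p ∈ g • (support₂ c)ᶜ ↔ p ∈ pts o := by rw [hgo]
        rw [smul_eq_image, mem_pts, Finset.mem_image] at hp
        have hp' : c (g.symm p) = 0 ↔ o.testBit (idx p) = true := by
          rw [← hp]
          refine ⟨fun h => ⟨g.symm p, by simp [support₂, h], g.apply_symm_apply p⟩, ?_⟩
          rintro ⟨q, hq, rfl⟩
          simpa [support₂] using hq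
        rcases eq_zero_or_one (c (g.symm p)) with h | h
        · simp [h, word, hp'.1 h]
          decide
        · have : ¬ o.testBit (idx p) = true := fun ht => by simp [hp'.2 ht] at h
          simp [h, word, this]
      have hmem := W.add_mem (hW g hg c hcW) (hW g' hg' c hcW)
      rw [hcompl hge, hcompl hge'] at hmem
      have e : (1 : GolayPt → ZMod 2) + word octad0 + (1 + word 0xc75001) =
          word (octad0 ^^^ 0xc75001) := by
        rw [word_xor, add_add_add_comm, add_self_word, zero_add]
      rwa [e] at hmem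
    · exact absurd (hone (Finset.eq_univ_of_card _ (by simp [h]))) h1
  obtain ⟨m, hm, hmW⟩ := hoct
  have hrow : ∀ r ∈ rows, word r ∈ W := fun r hr => by
    obtain ⟨g, hg, hge⟩ := exists_map_octad hm (rows_octads r hr)
    exact word_mem_of_smul hW hg hmW hge
  have haux : ∀ gs : List ℕ, (∀ r ∈ gs, word r ∈ W) → ∀ x, word (encAux gs x) ∈ W := by
    intro gs
    induction gs with
    | nil => intro _ x; simp [encAux, word_zero]
    | cons r gs ih =>
      intro h x
      simp only [encAux, word_xor]
      refine W.add_mem ?_ (ih (fun a ha => h a (List.mem_cons_of_mem _ ha)) _)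
      split
      · exact h r List.mem_cons_self
      · simp [word_zero]
  intro w hw
  obtain ⟨x, -, rfl⟩ := mem_golayCode_iff.1 hw
  exact haux rows hrow x

/-- The word supported on two given points. -/
def pair (a b : GolayPt) : GolayPt → ZMod 2 := Pi.single a 1 + Pi.single b 1

theorem pair_apply_perm (g : Equiv.Perm GolayPt) (a b : GolayPt) :
    (fun p => pair a b (g.symm p)) = pair (g a) (g b) := by
  funext p
  simp only [pair, Pi.add_apply, Pi.single_apply, Equiv.symm_apply_eq]

/-- An invariant subspace outside the code meets every even coset. -/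
theorem exists_pair_add (hW : ∀ σ ∈ M24, ∀ w ∈ W, (fun p => w (σ.symm p)) ∈ W)
    {w : GolayPt → ZMod 2} (hwW : w ∈ W) (hw : w ∉ golayCode) :
    ∃ c ∈ golayCode, pair none (some 0) + c ∈ W := by
  classical
  obtain ⟨v, hv4, hvC⟩ : ∃ v, hammingNorm v ≤ 4 ∧ w - v ∈ golayCode := by
    rcases GolayCosets.coset_classify w with ⟨-, v, h3, hv⟩ | ⟨h6, h4, -⟩
    · exact ⟨v, by omega, hv⟩
    · obtain ⟨v, hv⟩ := Set.nonempty_of_ncard_ne_zero (by omega : (GolayCosets.short w).ncard ≠ 0)
      exact ⟨v, (h4 v hv).le, hv.2⟩
  have hne : v ≠ 0 := fun h => hw (by simpa [h] using hvC)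
  set S := support₂ v with hS
  have hScard : S.card ≤ 4 := by rw [hS, card_support₂]; exact hv4
  obtain ⟨d, hd⟩ : S.Nonempty := Finset.nonempty_iff_ne_empty.2 fun h =>
    hne (eq_of_support₂_eq (by rw [← hS, h]; simp [support₂]))
  obtain ⟨e, -, he⟩ := Finset.exists_mem_notMem_of_card_lt_card
    (show S.card < (Finset.univ : Finset GolayPt).card by simp; omega)
  let x : Fin S.card ↪ GolayPt :=
    ⟨fun i => (S.equivFin.symm i : GolayPt), Subtype.val_injective.comp S.equivFin.symm.injective⟩
  let f : GolayPt → GolayPt := fun p => if p = d then e else p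
  have hf : Function.Injective fun i => f (x i) := by
    intro i j hij
    have hxS : ∀ i, x i ∈ S := fun i => (S.equivFin.symm i).2
    refine x.injective ?_
    simp only [f] at hij
    split at hij <;> split at hij
    · simp_all
    · exact absurd (hij.symm ▸ hxS j) he
    · exact absurd (hij ▸ hxS i) he
    · exact hij
  obtain ⟨g, hg, hgx⟩ := exists_map_of_le_five (show S.card ≤ 5 by omega) x ⟨_, hf⟩
  have hgS : ∀ p ∈ S, g p = f p := fun p hp => by
    have := hgx (S.equivFin ⟨p, hp⟩)
    simpa [x] using this
  have hsum : v + (fun p => v (g.symm p)) = pair d e := by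
    have hvS : ∀ p, v p = if p ∈ S then 1 else 0 := fun p => by
      rcases eq_zero_or_one (v p) with h | h <;> simp [hS, support₂, h]
    have hgv : ∀ p, v (g.symm p) = if p ∈ insert e (S.erase d) then 1 else 0 := fun p => by
      rw [hvS]
      refine if_congr ⟨fun h => ?_, fun h => ?_⟩ rfl rfl
      · have h2 := hgS _ h
        rw [g.apply_symm_apply] at h2
        simp only [f] at h2
        split at h2
        · simp [h2]
        · rw [← h2] at h
          exact Finset.mem_insert_of_mem (Finset.mem_erase.2 ⟨by rw [h2]; assumption, h⟩)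
      · rcases Finset.mem_insert.1 h with rfl | h
        · have h2 : g d = p := by rw [hgS d hd]; simp [f]
          rw [← h2, g.symm_apply_apply]
          exact hd
        · obtain ⟨hpd, hpS⟩ := Finset.mem_erase.1 h
          have h2 : g p = p := by rw [hgS p hpS]; simp [f, hpd]
          rwa [show g.symm p = p from g.symm_apply_eq.2 h2.symm]
    funext p
    rw [Pi.add_apply, hvS, hgv]
    have hde : d ≠ e := fun h => he (h ▸ hd)
    by_cases h1 : p = d
    · subst h1
      simp [pair, hd, hde]
    · by_cases h2 : p = e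
      · subst h2
        simp [pair, he, hde.symm]
      · by_cases h3 : p ∈ S <;> simp [pair, h1, h2, h3]
        decide
  obtain ⟨k, hk, hkd, hke⟩ := exists_map_two (show d ≠ e from fun h => he (h ▸ hd))
    (show (none : GolayPt) ≠ some 0 by simp)
  set c₀ := w + v with hc₀
  have hc₀C : c₀ ∈ golayCode := by rw [hc₀, ← sub_eq_add_word]; exact hvC
  have hpair : pair d e + (c₀ + fun p => c₀ (g.symm p)) ∈ W := by
    have h := W.add_mem hwW (hW g hg w hwW)
    have e1 : w + (fun p => w (g.symm p)) = pair d e + (c₀ + fun p => c₀ (g.symm p)) := by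
      rw [← hsum]
      funext p
      simp only [hc₀, Pi.add_apply]
      linear_combination (norm := (ring_nf; simp [CharTwo.two_eq_zero])) (0 : ZMod 2)
    rwa [e1] at h
  refine ⟨_, perm_mem hk (golayCode.add_mem hc₀C (perm_mem hg hc₀C)), ?_⟩
  have h := hW k hk _ hpair
  rw [show (fun p => (pair d e + (c₀ + fun q => c₀ (g.symm q))) (k.symm p)) =
    (fun p => pair d e (k.symm p)) + fun p => (c₀ + fun q => c₀ (g.symm q)) (k.symm p) from rfl,
    pair_apply_perm, hkd, hke] at h
  exact h

/-- An invariant subspace outside the code contains every pair. -/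
theorem pair_mem (hW : ∀ σ ∈ M24, ∀ w ∈ W, (fun p => w (σ.symm p)) ∈ W)
    {w : GolayPt → ZMod 2} (hwW : w ∈ W) (hw : w ∉ golayCode) (a b : GolayPt) :
    pair a b ∈ W := by
  obtain ⟨c, hc, hcW⟩ := exists_pair_add hW hwW hw
  have key : golayCode ≤ W ∨ c = 0 ∨ c = 1 := by
    obtain ⟨x, -, rfl⟩ := mem_golayCode_iff.1 hc
    by_cases hcC : ∃ d ∈ pairPerms, word (imgMask d (enc x) ^^^ enc x) ≠ 0 ∧
        word (imgMask d (enc x) ^^^ enc x) ≠ 1
    · obtain ⟨d, hd, h0, h1⟩ := hcC
      obtain ⟨⟨hda, h23⟩, hd0⟩ : (isAut d = true ∧ fn d 23 = 23) ∧ fn d 0 = 0 := by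
        have := List.all_eq_true.1 pair_check.1 d hd
        simpa [Bool.and_eq_true] using this
      have hv := validPerm_of_isAut hda
      refine Or.inl (code_le hW ?_ ?_ h0 h1)
      · rw [word_xor, word_imgMask hv]
        exact golayCode.add_mem (perm_mem (toPerm_mem_M24 hda) hc) hc
      · have hfix : pair ((toPerm d) none) ((toPerm d) (some 0)) = pair none (some 0) := by
          rw [idx_injective (a₁ := toPerm d none) (a₂ := none) (by rw [idx_toPerm hv]; exact h23),
            idx_injective (a₁ := toPerm d (some 0)) (a₂ := some 0) (by rw [idx_toPerm hv]; exact hd0)]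
        have h := W.add_mem (hW _ (toPerm_mem_M24 hda) _ hcW) hcW
        rw [show (fun p => (pair none (some 0) + word (enc x)) ((toPerm d).symm p)) =
          (fun p => pair none (some 0) ((toPerm d).symm p)) +
            fun p => word (enc x) ((toPerm d).symm p) from rfl,
          pair_apply_perm, hfix, ← word_imgMask hv, add_add_add_comm, add_self_word, zero_add,
          ← word_xor] at h
        exact h
    · refine Or.inr ?_
      push Not at hcC
      have h := allSpan_rows pair_check.2 x
      simp only [Bool.or_eq_true, beq_iff_eq, List.any_eq_true, Bool.not_eq_true',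
        Bool.or_eq_false_iff] at h
      rcases h with (h | h) | ⟨d, hd, h0, h1⟩
      · exact Or.inl (by rw [h, word_zero])
      · exact Or.inr (by rw [h, one_eq])
      · exfalso
        have hda : validPerm d = true := by
          have := List.all_eq_true.1 pair_check.1 d hd
          simp only [Bool.and_eq_true] at this
          exact validPerm_of_isAut this.1.1
        have hlt : imgMask d (enc x) ^^^ enc x < 2 ^ 24 :=
          Nat.xor_lt_two_pow (imgMask_lt hda _) (enc_lt x)
        have hinj : ∀ m, m < 2 ^ 24 → word (imgMask d (enc x) ^^^ enc x) = word m →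
            imgMask d (enc x) ^^^ enc x = m := fun m hm e => by
          refine pts_injOn hlt hm ?_
          rw [← support₂_word, e, support₂_word]
        by_cases e0 : word (imgMask d (enc x) ^^^ enc x) = 0
        · exact absurd (hinj 0 (by norm_num) (by rw [e0, word_zero])) (beq_eq_false_iff_ne.1 h0)
        · exact absurd (hinj _ (by norm_num) (by rw [hcC d hd e0, one_eq])) (beq_eq_false_iff_ne.1 h1)
  rcases eq_or_ne a b with rfl | hab
  · simp [pair, add_self_word]
  have hmove : ∀ a b, a ≠ b → ∀ c₁ : GolayPt → ZMod 2, c₁ ∈ W →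
      (∀ g : Equiv.Perm GolayPt, g ∈ M24 → (fun p => c₁ (g.symm p)) ∈ W) → pair none (some 0) + c₁ ∈ W →
      pair a b ∈ W := by
    intro a b hab c₁ _ hg₁ hc₁
    obtain ⟨k, hk, hka, hkb⟩ := exists_map_two (show (none : GolayPt) ≠ some 0 by simp) hab
    have h := hW k hk _ hc₁
    rw [show (fun p => (pair none (some 0) + c₁) (k.symm p)) =
      (fun p => pair none (some 0) (k.symm p)) + fun p => c₁ (k.symm p) from rfl,
      pair_apply_perm, hka, hkb] at h
    exact (W.add_mem_iff_left (hg₁ k hk)).1 h
  rcases key with hCW | rfl | rfl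
  · exact hmove a b hab c (hCW hc) (fun g hg => hCW (perm_mem hg hc)) hcW
  · exact hmove a b hab 0 W.zero_mem (fun g _ => W.zero_mem) hcW
  · -- two translates of the pair with the all-ones word cancel it
    obtain ⟨e, he⟩ := Finset.exists_mem_notMem_of_card_lt_card (s := ({a, b} : Finset GolayPt))
      (t := Finset.univ) (by rw [Finset.card_pair hab]; simp)
    have hmv : ∀ u v, u ≠ v → pair u v + 1 ∈ W := by
      intro u v huv
      obtain ⟨k, hk, hku, hkv⟩ := exists_map_two (show (none : GolayPt) ≠ some 0 by simp) huv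
      have h := hW k hk _ hcW
      rw [show (fun p => (pair none (some 0) + (1 : GolayPt → ZMod 2)) (k.symm p)) =
        (fun p => pair none (some 0) (k.symm p)) + 1 from rfl, pair_apply_perm, hku, hkv] at h
      exact h
    simp only [Finset.mem_insert, Finset.mem_singleton, not_or] at he
    have h := W.add_mem (hmv a e (Ne.symm he.2.1)) (hmv e b he.2.2)
    rw [add_add_add_comm, add_self_word, add_zero] at h
    have e2 : pair a e + pair e b = pair a b := by
      simp only [pair]
      rw [add_assoc, ← add_assoc (Pi.single e 1), add_self_word, zero_add]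
    rwa [e2] at h

theorem invariant_cases (hW : ∀ σ ∈ M24, ∀ w ∈ W, (fun p => w (σ.symm p)) ∈ W) :
    W = ⊥ ∨ W = Submodule.span (ZMod 2) {fun _ => (1 : ZMod 2)} ∨ W = golayCode ∨
      (W : Set (GolayPt → ZMod 2)) = {w | ∑ p, w p = 0} ∨ W = ⊤ := by
  by_cases hle : W ≤ golayCode
  · by_cases hsmall : ∀ w ∈ W, w = 0 ∨ w = 1
    · by_cases h1 : (1 : GolayPt → ZMod 2) ∈ W
      · refine Or.inr (Or.inl (le_antisymm (fun w hw => ?_) ?_))
        · rcases hsmall w hw with rfl | rfl
          · exact Submodule.zero_mem _
          · exact Submodule.subset_span rfl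
        · exact (Submodule.span_singleton_le_iff_mem _ _).2 h1
      · refine Or.inl ((Submodule.eq_bot_iff W).2 fun w hw => ?_)
        rcases hsmall w hw with h | h
        · exact h
        · exact absurd (h ▸ hw) h1
    · push Not at hsmall
      obtain ⟨w, hw, h0, h1⟩ := hsmall
      exact Or.inr (Or.inr (Or.inl (le_antisymm hle (code_le hW (hle hw) hw h0 h1))))
  · obtain ⟨w, hwW, hw⟩ := Set.not_subset.1 hle
    have heven : ∀ x : GolayPt → ZMod 2, ∑ p, x p = 0 → x ∈ W := by
      intro x hx
      have e : x = ∑ p, x p • pair p none := by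
        funext q
        simp only [Finset.sum_apply, Pi.smul_apply, pair, Pi.add_apply, smul_add,
          Finset.sum_add_distrib, smul_eq_mul, Pi.single_apply, mul_ite, mul_one, mul_zero,
          Finset.sum_ite_eq, Finset.mem_univ, if_true]
        split <;> simp [hx]
      rw [e]
      exact W.sum_mem fun p _ => W.smul_mem _ (pair_mem hW hwW hw p none)
    by_cases hodd : ∀ x ∈ W, ∑ p, x p = 0
    · exact Or.inr (Or.inr (Or.inr (Or.inl (Set.ext fun x => ⟨hodd x, heven x⟩))))
    · push Not at hodd
      obtain ⟨y, hy, hy0⟩ := hodd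
      have hy1 : ∑ p, y p = 1 := (eq_zero_or_one _).resolve_left hy0
      refine Or.inr (Or.inr (Or.inr (Or.inr (Submodule.eq_top_iff'.2 fun x => ?_))))
      rcases eq_zero_or_one (∑ p, x p) with h | h
      · exact heven x h
      · have : x + y ∈ W := heven _ (by simp [Finset.sum_add_distrib, h, hy1]; decide)
        exact (W.add_mem_iff_left hy).1 this

end Cfsg.Agent.GolayModule
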